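import Mathlib.RingTheory.Smooth.Basic
import Mathlib.RingTheory.Ideal.Quotient.Operations
import Mathlib.RingTheory.Ideal.Quotient.PowTransition

/-! Compatible lifts of a morphism out of a smooth algebra to all infinitesimal levels. -/

set_option autoImplicit false

universe u

namespace Groth.Agent.H9SmFormal

variable {A B C : Type u} [CommRing A] [CommRing B] [CommRing C] [Algebra A B] [Algebra A C]

/-- The levels of `C` along an ideal `K`. -/
abbrev lev (K : Ideal C) (n : ℕ) : Type u := C ⧸ K ^ (n + 1)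

/-- The transition maps between the levels. -/
def trans (K : Ideal C) (n : ℕ) : lev K (n + 1) →ₐ[A] lev K n :=
  { Ideal.Quotient.factor (Ideal.pow_le_pow_right (Nat.le_succ (n + 1)) : K ^ (n + 1 + 1) ≤ K ^ (n + 1)) with
    commutes' := fun _ => rfl }

theorem trans_surjective (K : Ideal C) (n : ℕ) : Function.Surjective (trans (A := A) K n) :=
  Ideal.Quotient.factor_surjective (Ideal.pow_le_pow_right (Nat.le_succ (n + 1)))

theorem isNilpotent_ker_trans (K : Ideal C) (n : ℕ) :
    IsNilpotent (RingHom.ker ((trans (A := A) K n : lev K (n + 1) →ₐ[A] lev K n) : lev K (n + 1) →+* lev K n)) := by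
  refine ⟨2, ?_⟩
  rw [Ideal.zero_eq_bot]
  show RingHom.ker (Ideal.Quotient.factor (Ideal.pow_le_pow_right (Nat.le_succ (n + 1)) :
    K ^ (n + 1 + 1) ≤ K ^ (n + 1))) ^ 2 = ⊥
  rw [Ideal.Quotient.factor_ker, ← Ideal.map_pow, Ideal.map_eq_bot_iff_le_ker, Ideal.mk_ker, ← pow_mul]
  exact Ideal.pow_le_pow_right (by omega)

/-- A morphism to the bottom level lifts compatibly to all levels. -/
theorem exists_lift_system [Algebra.FormallySmooth A B] (K : Ideal C) (ψ₀ : B →ₐ[A] lev K 0) :
    ∃ ψ : ∀ n, B →ₐ[A] lev K n, ψ 0 = ψ₀ ∧ ∀ n, (trans K n).comp (ψ (n + 1)) = ψ n := by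
  let st : ∀ n, (B →ₐ[A] lev K n) → (B →ₐ[A] lev K (n + 1)) := fun n g =>
    Algebra.FormallySmooth.liftOfSurjective g (trans K n) (trans_surjective K n) (isNilpotent_ker_trans K n)
  let ψ : ∀ n, B →ₐ[A] lev K n := fun n => Nat.rec (motive := fun n => B →ₐ[A] lev K n) ψ₀ st n
  exact ⟨ψ, rfl, fun n => Algebra.FormallySmooth.comp_liftOfSurjective _ _ _ _⟩

/-- The factor through a level of `B` of a morphism to the corresponding level of `C`. -/
def levMap (J : Ideal A) (n : ℕ) (ψ : B →ₐ[A] lev (J.map (algebraMap A C)) n) :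
    lev (J.map (algebraMap A B)) n →+* lev (J.map (algebraMap A C)) n :=
  Ideal.Quotient.lift _ ψ.toRingHom fun b hb => by
    have h : (J.map (algebraMap A B)) ^ (n + 1) ≤ RingHom.ker ψ.toRingHom := by
      rw [← Ideal.map_pow, Ideal.map_le_iff_le_comap]
      intro a ha
      rw [Ideal.mem_comap, RingHom.mem_ker]
      show ψ (algebraMap A B a) = 0
      rw [ψ.commutes, IsScalarTower.algebraMap_apply A C _ a]
      refine Ideal.Quotient.eq_zero_iff_mem.2 ?_
      rw [← Ideal.map_pow]
      exact Ideal.mem_map_of_mem _ ha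
    exact h hb

@[simp] theorem levMap_mk (J : Ideal A) (n : ℕ) (ψ : B →ₐ[A] lev (J.map (algebraMap A C)) n) (b : B) :
    levMap J n ψ (Ideal.Quotient.mk _ b) = ψ b := rfl

end Groth.Agent.H9SmFormal
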