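import Groth.Agent.FComplLib.SpfMap
import Groth.Agent.FComplLib.Sys
import Mathlib.AlgebraicGeometry.Morphisms.Smooth

/-! The formal spectrum of an affine open inside a completion, and adic maps of formal spectra. -/

set_option autoImplicit false
set_option linter.style.haveILetI false
set_option backward.isDefEq.respectTransparency false
set_option backward.isDefEq.respectTransparency.types false

universe u

open CategoryTheory CategoryTheory.Limits AlgebraicGeometry FSch

noncomputable section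

namespace Groth.Agent.H9SmFormal

variable (S : Scheme.{u}) (𝒥 : S.IdealSheafData) (U : S.affineOpens)

theorem ideal_pow_affine (n : ℕ) : (𝒥 ^ n).ideal U = 𝒥.ideal U ^ n := by
  rw [Scheme.IdealSheafData.ideal_pow, Pi.pow_apply]

/-- A level of the chart of the completion over an affine open. -/
def chartApp (n : ℕ) : (spf Γ(S, U.1) (𝒥.ideal U)).X n ⟶ (completionAlong S 𝒥).X n :=
  Spec.map (CommRingCat.ofHom (Ideal.quotEquivOfEq (ideal_pow_affine S 𝒥 U (n + 1))).toRingHom) ≫
    (𝒥 ^ (n + 1)).subschemeCover.f U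

instance isOpenImmersion_chartApp (n : ℕ) : IsOpenImmersion (chartApp S 𝒥 U n) := by
  haveI : IsIso (CommRingCat.ofHom (Ideal.quotEquivOfEq (ideal_pow_affine S 𝒥 U (n + 1))).toRingHom) :=
    (Ideal.quotEquivOfEq (ideal_pow_affine S 𝒥 U (n + 1))).toCommRingCatIso.isIso_hom
  haveI : IsOpenImmersion ((𝒥 ^ (n + 1)).subschemeCover.f U) := (𝒥 ^ (n + 1)).subschemeCover.map_prop U
  exact inferInstanceAs (IsOpenImmersion (_ ≫ _))

theorem chartApp_toX (n : ℕ) :
    chartApp S 𝒥 U n ≫ completionToX S 𝒥 n = spfToSpec _ (𝒥.ideal U) n ≫ U.2.fromSpec := by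
  show (Spec.map _ ≫ _) ≫ (𝒥 ^ (n + 1)).subschemeι = _
  rw [Category.assoc, Scheme.IdealSheafData.subschemeCover_map_subschemeι,
    Scheme.IdealSheafData.glueDataObjι, Category.assoc, ← Category.assoc]
  show _ = CohB1.specQuot _ n ≫ _
  rw [CohB1.specQuot, ← Spec.map_comp]
  congr 1

theorem opensRange_chartApp (n : ℕ) :
    (chartApp S 𝒥 U n).opensRange = completionToX S 𝒥 n ⁻¹ᵁ U.1 := by
  haveI : IsIso (CommRingCat.ofHom (Ideal.quotEquivOfEq (ideal_pow_affine S 𝒥 U (n + 1))).toRingHom) :=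
    (Ideal.quotEquivOfEq (ideal_pow_affine S 𝒥 U (n + 1))).toCommRingCatIso.isIso_hom
  show (Spec.map _ ≫ _).opensRange = _
  rw [Scheme.Hom.opensRange_comp_of_isIso]
  exact (𝒥 ^ (n + 1)).opensRange_subschemeCover_map U

theorem chartApp_comm (n : ℕ) :
    chartApp S 𝒥 U n ≫ (completionAlong S 𝒥).ι n =
      (spf Γ(S, U.1) (𝒥.ideal U)).ι n ≫ chartApp S 𝒥 U (n + 1) := by
  haveI : IsClosedImmersion (completionToX S 𝒥 (n + 1)) :=
    inferInstanceAs (IsClosedImmersion (𝒥 ^ (n + 2)).subschemeι)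
  rw [← cancel_mono (completionToX S 𝒥 (n + 1)), Category.assoc, Category.assoc, chartApp_toX]
  refine (congrArg (chartApp S 𝒥 U n ≫ ·) (Scheme.IdealSheafData.inclusion_subschemeι _)).trans ?_
  refine (chartApp_toX S 𝒥 U n).trans ?_
  show CohB1.specQuot _ n ≫ _ = CohB1.specQuotTrans _ n ≫ CohB1.specQuot _ (n + 1) ≫ _
  rw [CohB1.specQuot, CohB1.specQuot, CohB1.specQuotTrans, ← Category.assoc, ← Spec.map_comp]
  congr 2

/-- The chart of the completion over an affine open. -/
def chart : spf Γ(S, U.1) (𝒥.ideal U) ⟶ completionAlong S 𝒥 :=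
  ⟨chartApp S 𝒥 U, chartApp_comm S 𝒥 U⟩

theorem chart_app (n : ℕ) : (chart S 𝒥 U : Hom _ _).app n = chartApp S 𝒥 U n := rfl

theorem isAdicHom_chart : IsAdicHom (chart S 𝒥 U) := fun n => by
  refine IsOpenImmersion.isPullback _ (chartApp S 𝒥 U n) (chartApp S 𝒥 U (n + 1)) _
    (chartApp_comm S 𝒥 U n) ?_
  rw [opensRange_chartApp, opensRange_chartApp, ← Scheme.Hom.comp_preimage]
  exact congrArg (fun g => g ⁻¹ᵁ U.1) (Scheme.IdealSheafData.inclusion_subschemeι (pow_succ_le S 𝒥 n))

theorem isAdicHom_comp {𝔛 𝔜 ℨ : Sys.{u}} {f : 𝔛 ⟶ 𝔜} {g : 𝔜 ⟶ ℨ} (hf : IsAdicHom f) (hg : IsAdicHom g) :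
    IsAdicHom (f ≫ g) := fun n => (hf n).paste_vert (hg n)

open FComplLib in
theorem isAdicHom_spfMap {A B : Type u} [CommRing A] [CommRing B] (I : Ideal A) (K : Ideal B) (φ : B →+* A)
    (h : K ≤ I.comap φ) (hI : K.map φ = I) : IsAdicHom (spfMap I K φ h) := fun n => by
  haveI hclB : IsClosedImmersion (Spec.map (CommRingCat.ofHom
      (Ideal.Quotient.factor (Ideal.pow_le_pow_right (Nat.le_succ (n + 1)) : K ^ (n + 2) ≤ K ^ (n + 1))))) :=
    IsClosedImmersion.spec_of_surjective _
      (Ideal.Quotient.factor_surjective (Ideal.pow_le_pow_right (Nat.le_succ (n + 1))))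
  haveI hclA : IsClosedImmersion (Spec.map (CommRingCat.ofHom
      (Ideal.Quotient.factor (Ideal.pow_le_pow_right (Nat.le_succ (n + 1)) : I ^ (n + 2) ≤ I ^ (n + 1))))) :=
    IsClosedImmersion.spec_of_surjective _
      (Ideal.Quotient.factor_surjective (Ideal.pow_le_pow_right (Nat.le_succ (n + 1))))
  refine @isPullback_of_isClosedImmersion _ _ _ _ (Spec.map (CommRingCat.ofHom
      (Ideal.Quotient.factor (Ideal.pow_le_pow_right (Nat.le_succ (n + 1)) : I ^ (n + 2) ≤ I ^ (n + 1)))))
    (Spec.map (CommRingCat.ofHom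
      (Ideal.Quotient.factor (Ideal.pow_le_pow_right (Nat.le_succ (n + 1)) : K ^ (n + 2) ≤ K ^ (n + 1)))))
    ((spfMap I K φ h : Hom _ _).app n)
    (Spec.map (CommRingCat.ofHom (quotPowMap I K φ h (n + 1)))) hclA hclB
    ((spfMap I K φ h : Hom _ _).comm n).symm ?_
  refine Scheme.IdealSheafData.ext_of_isAffine ?_
  have e := congrArg CommRingCat.Hom.hom
    (Scheme.ΓSpecIso_inv_naturality (CommRingCat.ofHom (quotPowMap I K φ h (n + 1))))
  simp only [CommRingCat.hom_comp, CommRingCat.hom_ofHom] at e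
  rw [ModPairLib.comap_ideal_affine, ker_specMap_ideal _ (Ideal.Quotient.factor_surjective
      (Ideal.pow_le_pow_right (Nat.le_succ (n + 1)) : K ^ (n + 2) ≤ K ^ (n + 1))),
    ker_specMap_ideal _ (Ideal.Quotient.factor_surjective
      (Ideal.pow_le_pow_right (Nat.le_succ (n + 1)) : I ^ (n + 2) ≤ I ^ (n + 1))),
    Ideal.Quotient.factor_ker, Ideal.Quotient.factor_ker, Ideal.map_map, ← e]
  refine Eq.trans ?_ (congrArg (fun T => Ideal.map _ (Ideal.map _ T)) ((Ideal.map_pow φ K (n + 1)).trans (congrArg (· ^ (n + 1)) hI)))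
  rw [Ideal.map_map, Ideal.map_map]
  refine Eq.trans ?_ (Ideal.map_map _ _).symm
  rfl

/-- The reduction of a smooth algebra is smooth at every level. -/
theorem smooth_spfMap_app {A B : Type u} [CommRing A] [CommRing B] [Algebra A B] [Algebra.Smooth A B]
    (J : Ideal A) (n : ℕ) :
    Smooth ((spfMap (J.map (algebraMap A B)) J (algebraMap A B) Ideal.le_comap_map : Hom _ _).app n) := by
  haveI : Smooth (Spec.map (CommRingCat.ofHom (algebraMap A B))) :=
    (HasRingHomProperty.Spec_iff (P := @Smooth)).2 (RingHom.smooth_algebraMap.2 inferInstance)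
  refine MorphismProperty.of_isPullback (P := @Smooth) (g := Spec.map (CommRingCat.ofHom (algebraMap A B)))
    (f := CohB1.specQuot J n) (f' := CohB1.specQuot (J.map (algebraMap A B)) n) ?_ inferInstance
  haveI : IsClosedImmersion (CohB1.specQuot J n) :=
    IsClosedImmersion.spec_of_surjective _ Ideal.Quotient.mk_surjective
  haveI : IsClosedImmersion (CohB1.specQuot (J.map (algebraMap A B)) n) :=
    IsClosedImmersion.spec_of_surjective _ Ideal.Quotient.mk_surjective
  refine isPullback_of_isClosedImmersion _ _ _ _ ?_ ?_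
  · show Spec.map _ ≫ Spec.map _ = Spec.map _ ≫ Spec.map _
    rw [← Spec.map_comp, ← Spec.map_comp]
    rfl
  · refine Scheme.IdealSheafData.ext_of_isAffine ?_
    have e := congrArg CommRingCat.Hom.hom
      (Scheme.ΓSpecIso_inv_naturality (CommRingCat.ofHom (algebraMap A B)))
    simp only [CommRingCat.hom_comp, CommRingCat.hom_ofHom] at e
    rw [CohB1.specQuot, CohB1.specQuot, ModPairLib.comap_ideal_affine,
      FComplLib.ker_specMap_ideal _ Ideal.Quotient.mk_surjective,
      FComplLib.ker_specMap_ideal _ Ideal.Quotient.mk_surjective, Ideal.mk_ker, Ideal.mk_ker,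
      Ideal.map_map, ← e, ← Ideal.map_map, Ideal.map_pow]

end Groth.Agent.H9SmFormal
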