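import Groth.Agent.H9SmFormal.Alg
import Groth.Agent.H9SmFormal.Chart
import Groth.Agent.Hensel.SmoothAlgLift

/-! Local smooth formal lifting of a morphism of smooth schemes over the reduction of a completion. -/

set_option autoImplicit false
set_option linter.style.haveILetI false
set_option backward.isDefEq.respectTransparency false
set_option backward.isDefEq.respectTransparency.types false

universe u

open CategoryTheory CategoryTheory.Limits AlgebraicGeometry FSch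

noncomputable section

namespace Groth.Agent.H9SmFormal

variable {S : Scheme.{u}} {𝒥 : S.IdealSheafData}

/-- The affine chart of a smooth scheme over the bottom level of the completion. -/
theorem exists_smooth_chart {Y₀ : Scheme.{u}} (b : Y₀ ⟶ (completionAlong S 𝒥).X 0) [Smooth b]
    (U : S.affineOpens) {V : Y₀.Opens} (hV : IsAffineOpen V)
    (hVU : V ≤ b ⁻¹ᵁ (completionToX S 𝒥 0 ⁻¹ᵁ U.1)) :
    ∃ φ : CommRingCat.of (Γ(S, U.1) ⧸ 𝒥.ideal U ^ (0 + 1)) ⟶ Γ(Y₀, V),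
      Spec.map φ ≫ chartApp S 𝒥 U 0 = hV.fromSpec ≫ b ∧ φ.hom.Smooth := by
  have hr : Set.range (hV.fromSpec ≫ b) ⊆ Set.range (chartApp S 𝒥 U 0) := by
    rintro _ ⟨z, rfl⟩
    have hz : hV.fromSpec z ∈ V := hV.range_fromSpec.le ⟨z, rfl⟩
    have := hVU hz
    rw [← opensRange_chartApp] at this
    exact this
  let l := IsOpenImmersion.lift (chartApp S 𝒥 U 0) (hV.fromSpec ≫ b) hr
  have hl : l ≫ chartApp S 𝒥 U 0 = hV.fromSpec ≫ b := IsOpenImmersion.lift_fac _ _ _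
  obtain ⟨φ, hφ⟩ := Spec.map_surjective l
  haveI : Smooth l := MorphismProperty.of_isPullback (P := @Smooth)
    (IsOpenImmersion.isPullback l (𝟙 _) (chartApp S 𝒥 U 0) (hV.fromSpec ≫ b)
      ((Category.id_comp _).trans hl.symm) (by
        refine le_antisymm (fun z _ => ⟨z, rfl⟩) fun z _ => ?_
        exact hr ⟨z, rfl⟩)).flip (inferInstanceAs (Smooth (hV.fromSpec ≫ b)))
  refine ⟨φ, by rw [hφ]; exact hl, ?_⟩
  exact (HasRingHomProperty.Spec_iff (P := @Smooth)).1 (hφ.symm ▸ ‹Smooth l›)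

theorem exists_formal_lifting {X₀ Y₀ : Scheme.{u}}
    (a : X₀ ⟶ (completionAlong S 𝒥).X 0) (b : Y₀ ⟶ (completionAlong S 𝒥).X 0)
    [Smooth a] [Smooth b] (f : X₀ ⟶ Y₀) (w : f ≫ b = a) (x : X₀) :
    ∃ (U₀ : X₀.Opens) (V₀ : Y₀.Opens) (_hU : x ∈ U₀) (hUV : U₀ ≤ f ⁻¹ᵁ V₀)
      (𝔘 𝔙 : FSch.Sys.{u}) (p : 𝔘 ⟶ completionAlong S 𝒥) (q : 𝔙 ⟶ completionAlong S 𝒥)
      (Φ : 𝔘 ⟶ 𝔙) (eU : 𝔘.X 0 ≅ U₀.toScheme) (eV : 𝔙.X 0 ≅ V₀.toScheme),
      Φ ≫ q = p ∧ IsAdicHom p ∧ IsAdicHom q ∧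
      (∀ n : ℕ, Smooth ((p : Hom 𝔘 _).app n)) ∧
      (∀ n : ℕ, Smooth ((q : Hom 𝔙 _).app n)) ∧
      eU.hom ≫ U₀.ι ≫ a = (p : Hom 𝔘 _).app 0 ∧
      eV.hom ≫ V₀.ι ≫ b = (q : Hom 𝔙 _).app 0 ∧
      (Φ : Hom 𝔘 𝔙).app 0 ≫ eV.hom = eU.hom ≫ f.resLE V₀ U₀ hUV := by
  obtain ⟨U', hU', hsU, -⟩ := exists_isAffineOpen_mem_and_subset
    (x := completionToX S 𝒥 0 (b (f x))) (U := ⊤) trivial
  let U : S.affineOpens := ⟨U', hU'⟩
  obtain ⟨V₀, hV, hyV, hVU⟩ := exists_isAffineOpen_mem_and_subset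
    (x := f x) (U := b ⁻¹ᵁ (completionToX S 𝒥 0 ⁻¹ᵁ U.1)) hsU
  obtain ⟨U₀, hU, hxU, hUV⟩ := exists_isAffineOpen_mem_and_subset (x := x) (U := f ⁻¹ᵁ V₀) hyV
  have hUW : U₀ ≤ a ⁻¹ᵁ (completionToX S 𝒥 0 ⁻¹ᵁ U.1) := by
    intro z hz
    rw [← w]
    exact hVU (hUV hz)
  obtain ⟨φB, hlB, hφB⟩ := exists_smooth_chart b U hV hVU
  obtain ⟨φC, hlC, hφC⟩ := exists_smooth_chart a U hU hUW
  let χ := f.appLE V₀ U₀ hUV
  have hχ : Spec.map χ ≫ hV.fromSpec = hU.fromSpec ≫ f := hV.SpecMap_appLE_fromSpec f hU hUV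
  have hBC : φB ≫ χ = φC := Spec.map_injective ((cancel_mono (chartApp S 𝒥 U 0)).1 (by
    rw [Spec.map_comp, Category.assoc, hlB, hlC, ← Category.assoc, hχ, Category.assoc, w]))
  let A := Γ(S, U.1)
  let J : Ideal A := 𝒥.ideal U
  let I₀ : Ideal A := J ^ (0 + 1)
  letI : Algebra (A ⧸ I₀) Γ(Y₀, V₀) := φB.hom.toAlgebra
  letI : Algebra A Γ(Y₀, V₀) := (φB.hom.comp (Ideal.Quotient.mk I₀)).toAlgebra
  haveI : IsScalarTower A (A ⧸ I₀) Γ(Y₀, V₀) := IsScalarTower.of_algebraMap_eq fun _ => rfl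
  haveI : Algebra.Smooth (A ⧸ I₀) Γ(Y₀, V₀) := hφB
  letI : Algebra (A ⧸ I₀) Γ(X₀, U₀) := φC.hom.toAlgebra
  letI : Algebra A Γ(X₀, U₀) := (φC.hom.comp (Ideal.Quotient.mk I₀)).toAlgebra
  haveI : IsScalarTower A (A ⧸ I₀) Γ(X₀, U₀) := IsScalarTower.of_algebraMap_eq fun _ => rfl
  haveI : Algebra.Smooth (A ⧸ I₀) Γ(X₀, U₀) := hφC
  let χa : Γ(Y₀, V₀) →ₐ[A] Γ(X₀, U₀) :=
    { χ.hom with commutes' := fun r => congr($hBC (Ideal.Quotient.mk I₀ r)) }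
  obtain ⟨B, _, _, _, fB, hfB, hkB⟩ := Hensel.exists_smooth_algebra_lift I₀ (C := Γ(Y₀, V₀))
  obtain ⟨C, _, _, _, fC, hfC, hkC⟩ := Hensel.exists_smooth_algebra_lift I₀ (C := Γ(X₀, U₀))
  let KB : Ideal B := J.map (algebraMap A B)
  let KC : Ideal C := J.map (algebraMap A C)
  let eB : (B ⧸ KB ^ (0 + 1)) ≃ₐ[A] Γ(Y₀, V₀) :=
    (Ideal.quotientEquivAlgOfEq A ((Ideal.map_pow _ J (0 + 1)).symm.trans hkB.symm)).trans
      (Ideal.quotientKerAlgEquivOfSurjective hfB)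
  have heB : ∀ r, eB (Ideal.Quotient.mk _ r) = fB r := fun r => rfl
  let eC : (C ⧸ KC ^ (0 + 1)) ≃ₐ[A] Γ(X₀, U₀) :=
    (Ideal.quotientEquivAlgOfEq A ((Ideal.map_pow _ J (0 + 1)).symm.trans hkC.symm)).trans
      (Ideal.quotientKerAlgEquivOfSurjective hfC)
  obtain ⟨ψ, hψ₀, hψ⟩ := exists_lift_system KC (eC.symm.toAlgHom.comp (χa.comp fB))
  let Φ : spf C KC ⟶ spf B KB :=
    ⟨fun n => Spec.map (CommRingCat.ofHom (levMap J n (ψ n))), fun n => by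
      change Spec.map _ ≫ Spec.map _ = Spec.map _ ≫ Spec.map _
      rw [← Spec.map_comp, ← Spec.map_comp, ← CommRingCat.ofHom_comp, ← CommRingCat.ofHom_comp]
      congr 2
      refine Ideal.Quotient.ringHom_ext (RingHom.ext fun r => ?_)
      exact (AlgHom.congr_fun (hψ n) r).symm⟩
  let qB := spfMap KB J (algebraMap A B) Ideal.le_comap_map
  let qC := spfMap KC J (algebraMap A C) Ideal.le_comap_map
  haveI : IsIso (CommRingCat.ofHom eB.symm.toRingEquiv.toRingHom) :=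
    eB.symm.toRingEquiv.toCommRingCatIso.isIso_hom
  haveI : IsIso (CommRingCat.ofHom eC.symm.toRingEquiv.toRingHom) :=
    eC.symm.toRingEquiv.toCommRingCatIso.isIso_hom
  let eV : (spf B KB).X 0 ≅ V₀.toScheme :=
    asIso (Spec.map (CommRingCat.ofHom eB.symm.toRingEquiv.toRingHom)) ≪≫ hV.isoSpec.symm
  let eU : (spf C KC).X 0 ≅ U₀.toScheme :=
    asIso (Spec.map (CommRingCat.ofHom eC.symm.toRingEquiv.toRingHom)) ≪≫ hU.isoSpec.symm
  have heV : eV.hom ≫ V₀.ι = Spec.map (CommRingCat.ofHom eB.symm.toRingEquiv.toRingHom) ≫ hV.fromSpec :=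
    Category.assoc _ _ _
  have heU : eU.hom ≫ U₀.ι = Spec.map (CommRingCat.ofHom eC.symm.toRingEquiv.toRingHom) ≫ hU.fromSpec :=
    Category.assoc _ _ _
  refine ⟨U₀, V₀, hxU, hUV, spf C KC, spf B KB, qC ≫ chart S 𝒥 U, qB ≫ chart S 𝒥 U, Φ, eU, eV,
    ?_, ?_, ?_, fun n => ?_, fun n => ?_, ?_, ?_, ?_⟩
  · rw [← Category.assoc]
    refine congrArg (· ≫ chart S 𝒥 U) (FSch.Hom.ext (funext fun n => ?_))
    show Spec.map _ ≫ Spec.map _ = Spec.map _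
    rw [← Spec.map_comp, ← CommRingCat.ofHom_comp]
    congr 2
    exact Ideal.Quotient.ringHom_ext (RingHom.ext fun r => (ψ n).commutes r)
  · exact isAdicHom_comp (isAdicHom_spfMap _ _ _ _ rfl) (isAdicHom_chart S 𝒥 U)
  · exact isAdicHom_comp (isAdicHom_spfMap _ _ _ _ rfl) (isAdicHom_chart S 𝒥 U)
  · haveI := smooth_spfMap_app (B := C) J n
    exact inferInstanceAs (Smooth ((qC : Hom _ _).app n ≫ chartApp S 𝒥 U n))
  · haveI := smooth_spfMap_app (B := B) J n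
    exact inferInstanceAs (Smooth ((qB : Hom _ _).app n ≫ chartApp S 𝒥 U n))
  · show _ = Spec.map _ ≫ chartApp S 𝒥 U 0
    rw [← Category.assoc, heU, Category.assoc, ← hlC, ← Category.assoc, ← Spec.map_comp]
    refine congrArg (fun g => Spec.map g ≫ chartApp S 𝒥 U 0) ?_
    refine CommRingCat.hom_ext (Ideal.Quotient.ringHom_ext (RingHom.ext fun r => ?_))
    exact eC.symm.commutes r
  · show _ = Spec.map _ ≫ chartApp S 𝒥 U 0
    rw [← Category.assoc, heV, Category.assoc, ← hlB, ← Category.assoc, ← Spec.map_comp]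
    refine congrArg (fun g => Spec.map g ≫ chartApp S 𝒥 U 0) ?_
    refine CommRingCat.hom_ext (Ideal.Quotient.ringHom_ext (RingHom.ext fun r => ?_))
    exact eB.symm.commutes r
  · rw [← cancel_mono V₀.ι, Category.assoc, Category.assoc, Scheme.Hom.resLE_comp_ι, heV,
      ← Category.assoc eU.hom, heU, Category.assoc, ← hχ, ← Category.assoc, ← Category.assoc]
    refine congrArg (· ≫ hV.fromSpec) ?_
    show Spec.map _ ≫ Spec.map _ = Spec.map _ ≫ Spec.map _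
    rw [← Spec.map_comp, ← Spec.map_comp]
    refine congrArg Spec.map (CommRingCat.hom_ext (RingHom.ext fun c => ?_))
    obtain ⟨r, rfl⟩ := hfB c
    show levMap J 0 (ψ 0) (eB.symm (fB r)) = eC.symm (χa (fB r))
    rw [show eB.symm (fB r) = Ideal.Quotient.mk _ r from eB.symm_apply_eq.2 (heB r).symm, levMap_mk, hψ₀]
    rfl

end Groth.Agent.H9SmFormal
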